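import Mathlib

/-!
# The class number of a coprime linear group is less than the order of the module

Project KGL (hub helper475): `k(G) ≤ |V| - 1` for a group `G` of order prime to `p` acting faithfully on a nonzero
finite vector space `V` over `ZMod p` (statements S4968, S4533, S4532).

A linear group is a subgroup `G` of `V ≃ₗ[ZMod p] V`.

* `kc G` : the class number;
* `Bd p V` : the theorem for all linear groups on `V`;
* `img G W` : the linear group induced on the subspace `W` of `V` by its stabiliser in `G`;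
* `Block G W` : `W ≠ 0` and the sum of the `G`-translates of `W` is direct;
* `Prim H` : irreducible and primitive;
* `RV p H` : there is a real vector;
* `Small H` : `2 k(N) ≤ |W|` for all subnormal subgroups `N` of `H`;
* `Exc H` : the exceptional case `|W| = 25`;
* `BSit` : the basic situation after the tensor step; `BGood`, `BExc` : its two outcomes.
-/

set_option autoImplicit false

namespace Cfsg.Agent.H475.KGL

open Subgroup

universe u v

/-- The class number. -/
noncomputable abbrev kc (G : Type*) [Group G] : ℕ := Nat.card (ConjClasses G)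

/-- `N` is a subnormal subgroup of `H`. -/
def SN {G : Type*} [Group G] (N H : Subgroup G) : Prop := N ≤ H ∧ (N.subgroupOf H).IsSubnormal

section

variable {p : ℕ} {V : Type*} [AddCommGroup V] [Module (ZMod p) V]

/-- `G` is regular on the nonzero vectors. -/
def Reg (G : Subgroup (V ≃ₗ[ZMod p] V)) : Prop :=
  (∀ v : V, v ≠ 0 → ∀ w : V, w ≠ 0 → ∃ g ∈ G, g v = w) ∧ ∀ g ∈ G, ∀ v : V, v ≠ 0 → g v = v → g = 1

/-- The linear group on `W` induced by the stabiliser of `W` in `G`. -/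
def img (G : Subgroup (V ≃ₗ[ZMod p] V)) (W : Submodule (ZMod p) V) :
    Subgroup (W ≃ₗ[ZMod p] W) where
  carrier := {a | ∃ g ∈ G, ∀ w : W, (a w : V) = g w}
  one_mem' := ⟨1, G.one_mem, fun w => rfl⟩
  mul_mem' := by
    rintro a b ⟨g, hg, ha⟩ ⟨h, hh, hb⟩
    refine ⟨g * h, G.mul_mem hg hh, fun w => ?_⟩
    change (a (b w) : V) = g (h w)
    rw [ha, hb]
  inv_mem' := by
    rintro a ⟨g, hg, ha⟩
    refine ⟨g⁻¹, G.inv_mem hg, fun w => ?_⟩
    change ((a.symm w : W) : V) = g.symm w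
    rw [LinearEquiv.eq_symm_apply, ← ha, LinearEquiv.apply_symm_apply]

theorem mem_img {G : Subgroup (V ≃ₗ[ZMod p] V)} {W : Submodule (ZMod p) V} {a : W ≃ₗ[ZMod p] W} :
    a ∈ img G W ↔ ∃ g ∈ G, ∀ w : W, (a w : V) = g w := Iff.rfl

/-- `G` leaves only the trivial subspaces invariant. -/
def Irr (G : Subgroup (V ≃ₗ[ZMod p] V)) : Prop :=
  ∀ U : Submodule (ZMod p) V, (∀ g ∈ G, ∀ u ∈ U, g u ∈ U) → U = ⊥ ∨ U = ⊤

/-- The set of `G`-translates of `W`. -/
def trans (G : Subgroup (V ≃ₗ[ZMod p] V)) (W : Submodule (ZMod p) V) :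
    Set (Submodule (ZMod p) V) :=
  {Y | ∃ g ∈ G, Y = W.map (g : V →ₗ[ZMod p] V)}

/-- `W` is a block: it is nonzero and the sum of its translates is direct. -/
def Block (G : Subgroup (V ≃ₗ[ZMod p] V)) (W : Submodule (ZMod p) V) : Prop :=
  W ≠ ⊥ ∧ sSupIndep (trans G W)

/-- Irreducible and primitive. -/
def Prim (H : Subgroup (V ≃ₗ[ZMod p] V)) : Prop :=
  Nontrivial V ∧ Irr H ∧ ∀ U : Submodule (ZMod p) V, Block H U → U = ⊤

/-- There is a real vector `w`: the stabiliser of `w` in `H` has a faithful invariant subspace `U ≠ 0` with a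
nondegenerate invariant bilinear form. -/
def RV (H : Subgroup (V ≃ₗ[ZMod p] V)) : Prop :=
  ∃ (w : V) (U : Submodule (ZMod p) V) (β : V → V → ZMod p), U ≠ ⊥ ∧
    (∀ h ∈ H, h w = w → ∀ u ∈ U, h u ∈ U) ∧
    (∀ h ∈ H, h w = w → (∀ u ∈ U, h u = u) → h = 1) ∧
    (∀ u ∈ U, ∀ u' ∈ U, ∀ x ∈ U, β (u + u') x = β u x + β u' x) ∧
    (∀ u ∈ U, ∀ x ∈ U, ∀ x' ∈ U, β u (x + x') = β u x + β u x') ∧
    (∀ h ∈ H, h w = w → ∀ u ∈ U, ∀ x ∈ U, β (h u) (h x) = β u x) ∧
    ∀ u ∈ U, (∀ x ∈ U, β u x = 0) → u = 0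

/-- All subnormal subgroups have small class number. -/
def Small (H : Subgroup (V ≃ₗ[ZMod p] V)) : Prop :=
  ∀ N : Subgroup (V ≃ₗ[ZMod p] V), SN N H → 2 * kc N ≤ Nat.card V

/-- The exceptional case (`p = 5`, the normaliser of `Q₈` in `GL₂(5)` and some subgroups of it). -/
def Exc (H : Subgroup (V ≃ₗ[ZMod p] V)) : Prop :=
  Nat.card V = 25 ∧ Nat.card H ≤ 96 ∧ ∀ N : Subgroup (V ≃ₗ[ZMod p] V), SN N H → kc N ≤ 16

end

/-- The theorem for all linear groups on `V`. -/
def Bd (p : ℕ) (V : Type*) [AddCommGroup V] [Module (ZMod p) V] : Prop :=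
  ∀ G : Subgroup (V ≃ₗ[ZMod p] V), ¬ p ∣ Nat.card G →
    kc G ≤ Nat.card V - 1 ∧ (kc G = Nat.card V - 1 → Reg G)

/-- The basic situation.  `H` is a finite group of order prime to `p` with normal subgroups `A < M ≤ C`; `C` acts
faithfully on the vector space `W` over `ZMod p`, `M` acts irreducibly on `W`; the endomorphisms of `W`
commuting with `M` commute with `C`, and there are `p ^ e` of them (so they form a field with `p ^ e` elements and `W`
is an absolutely irreducible module for `M` over it); `A` is central in `M` and maximal among the abelian normal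
subgroups of `H` (inside `M`), and `M / A` is a chief factor of `H`. -/
structure BSit (p e : ℕ) {H : Type u} [Group H] (A M C : Subgroup H) {W : Type v} [AddCommGroup W]
    [Module (ZMod p) W] (ρ : C →* (W ≃ₗ[ZMod p] W)) : Prop where
  cop : ¬ p ∣ Nat.card H
  nA : A.Normal
  nM : M.Normal
  nC : C.Normal
  lt : A < M
  le : M ≤ C
  com : ∀ a ∈ A, ∀ x ∈ M, a * x = x * a
  max : ∀ B : Subgroup H, B.Normal → A ≤ B → B ≤ M → (∀ a ∈ B, ∀ b ∈ B, a * b = b * a) → B = A
  chief : ∀ B : Subgroup H, B.Normal → A ≤ B → B ≤ M → B = A ∨ B = M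
  inj : Function.Injective ρ
  nt : Nontrivial W
  irr : ∀ U : Submodule (ZMod p) W, (∀ m : C, (m : H) ∈ M → ∀ u ∈ U, ρ m u ∈ U) → U = ⊥ ∨ U = ⊤
  endC : ∀ f : W →ₗ[ZMod p] W, (∀ m : C, (m : H) ∈ M → ∀ w, f (ρ m w) = ρ m (f w)) →
    ∀ (c : C) (w : W), f (ρ c w) = ρ c (f w)
  endq : Nat.card {f : W →ₗ[ZMod p] W // ∀ m : C, (m : H) ∈ M → ∀ w, f (ρ m w) = ρ m (f w)} = p ^ e

/-- The good outcome in the basic situation. -/
def BGood (e : ℕ) {H : Type u} [Group H] (C : Subgroup H) (W : Type v) : Prop :=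
  ∀ N : Subgroup H, N.IsSubnormal → N ≤ C → 2 * e * kc N ≤ Nat.card W

/-- The exceptional outcome in the basic situation. -/
def BExc (p e : ℕ) {H : Type u} [Group H] (C : Subgroup H) (W : Type v) : Prop :=
  p = 5 ∧ e = 1 ∧ Nat.card W = 25 ∧ Nat.card C ≤ 96 ∧
    ∀ N : Subgroup H, N.IsSubnormal → N ≤ C → kc N ≤ 16

end Cfsg.Agent.H475.KGL
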