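import Cfsg.Agent.H475.KGL.Defs

/-!
# Project KGL: statements of the rows

* `Perm2` : S4197; `PermB` : the weighted class sum of permutation groups of order prime to 5;
* `EOut`, `EBd` : the symplectic type case; `LBp`, `RowS` : the almost simple case.
-/

set_option autoImplicit false

namespace Cfsg.Agent.H475.KGL

open Subgroup

universe u v

/-- S4197. -/
def Perm2 : Prop := ∀ (n : ℕ) (S : Subgroup (Equiv.Perm (Fin n))), kc S ≤ 2 ^ (n - 1)

/-- S4199 for the prime 5. -/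
def Prim5 : Prop := ∀ (n : ℕ), 7 ≤ n → ∀ (S : Subgroup (Equiv.Perm (Fin n))),
  MulAction.IsPreprimitive S (Fin n) → ¬ 5 ∣ Nat.card S → kc S ^ 2 ≤ 2 ^ n

/-- The weight `16 ^ (number of fixed points) * 96 ^ (number of nontrivial cycles)` of a permutation of `m` points. -/
def wt {m : ℕ} (g : Equiv.Perm (Fin m)) : ℕ := 16 ^ (m - g.support.card) * 96 ^ (Multiset.card g.cycleType)

/-- The weighted class sum of a permutation group of degree `m` and order prime to `5` is at most `16 · 25 ^ (m - 1)`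
(`f` picks a representative in every class). -/
def PermB : Prop := ∀ (m : ℕ), 1 ≤ m → ∀ (S : Subgroup (Equiv.Perm (Fin m))), ¬ 5 ∣ Nat.card S →
  ∀ f : ConjClasses S → S, (∀ c, ConjClasses.mk (f c) = c) →
    ∑ᶠ c : ConjClasses S, wt (f c : Equiv.Perm (Fin m)) ≤ 16 * 25 ^ (m - 1)

/-- The outcome of the structural analysis of the basic situation with `M / A` elementary abelian of order
`r ^ (2 n)`. -/
def EOut (p e r n : ℕ) {H : Type u} [Group H] (C : Subgroup H) : Prop :=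
  ∃ (ω : LinearMap.BilinForm (ZMod r) (Fin (2 * n) → ZMod r))
    (Hb : Subgroup ((Fin (2 * n) → ZMod r) ≃ₗ[ZMod r] (Fin (2 * n) → ZMod r))),
    ω.IsAlt ∧ ω.Nondegenerate ∧ ¬ p ∣ Nat.card Hb ∧ Irr Hb ∧
    (r = 2 → ∀ h ∈ Hb, ∀ u v, ω (h u) (h v) = ω u v) ∧
    ∀ N : Subgroup H, N.IsSubnormal → N ≤ C → ∃ X, SN X Hb ∧ (∀ x ∈ X, ∀ u v, ω (x u) (x v) = ω u v) ∧
      r * kc N ≤ (p ^ e - 1) * (r ^ (2 * n) + r - 1) * kc X

/-- Class numbers of subnormal subgroups of irreducible subgroups, of order prime to `p`, of `Sp_{2n}(2)`. -/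
def EBd (p n κ : ℕ) : Prop :=
  ∀ (ω : LinearMap.BilinForm (ZMod 2) (Fin (2 * n) → ZMod 2))
    (Hb : Subgroup ((Fin (2 * n) → ZMod 2) ≃ₗ[ZMod 2] (Fin (2 * n) → ZMod 2))),
    ω.IsAlt → ω.Nondegenerate → (∀ h ∈ Hb, ∀ u v, ω (h u) (h v) = ω u v) → ¬ p ∣ Nat.card Hb → Irr Hb →
    ∀ X, SN X Hb → kc X ≤ κ

/-- `δ` is a lower bound for the degrees of the nontrivial projective representations of `T` in characteristic `p`
(representations of perfect central extensions of order prime to `p`). -/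
def LBp (T : Type) [Group T] (p δ : ℕ) : Prop :=
  ∀ (L : Type) [Group L] [Finite L], ¬ p ∣ Nat.card L → commutator L = ⊤ →
    ∀ π : L →* T, Function.Surjective π → π.ker ≤ center L →
    ∀ (F : Type) [Field F] [Finite F] [CharP F p] (n : ℕ) (ρ : L →* GL (Fin n) F), ρ ≠ 1 → δ ≤ n

/-- `κ` is an upper bound for the class numbers of the groups between `T` and `Aut T`. -/
def UBk (T : Type) [Group T] (κ : ℕ) : Prop :=
  ∀ Y : Subgroup (MulAut T), (MulAut.conj : T →* MulAut T).range ≤ Y → kc Y ≤ κ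

/-- The row of the simple group `T`. -/
def RowS (T : Type) [Group T] : Prop :=
  ∀ p : ℕ, p.Prime → ¬ p ∣ Nat.card T → ∃ κ δ : ℕ, UBk T κ ∧ LBp T p δ ∧ 2 ≤ δ ∧ 2 * κ ≤ p ^ (δ - 1)

end Cfsg.Agent.H475.KGL
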